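import Cfsg.Agent.Lib.Blocks.Watanabe.Count
import Cfsg.Agent.Lib.Blocks.FreeQuotient.PairChar

/-!
# The focal subgroup of a block with abelian defect group, and its cosets

The inertial quotient has order prime to `p`, so it fixes no nontrivial element of the focal
subgroup.  The sums of `|C_T(z)| l(b_z)` over the cosets of the focal subgroup are all equal.
-/

set_option autoImplicit false
set_option linter.unusedSectionVars false
set_option linter.style.haveILetI false

namespace CfsgLib.Blocks.Watanabe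

open Cfsg CfsgLib.Blocks.FreeQuot
open scoped ComplexConjugate CfsgLib.Char

variable {p : ℕ} {M : Ideal AlgInt} [M.IsPrime] {G : Type*} [Group G] [Fintype G] {P : Subgroup G}
  {c : Set (IrrCharacter (Subgroup.centralizer (P : Set G)))} {B : Set (IrrCharacter G)}
  {F : FusionSystem P}

/-- A fixed element of the focal subgroup is trivial. -/
theorem focal_fixed_eq_one (hM : IsPModular p M) (hmax : IsMaximalBrauerPair p M B P c)
    (hab : ∀ x ∈ P, ∀ y ∈ P, x * y = y * x) (hF : IsBlockFusionSystemOn p M B P c F)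
    (hm : ¬ p ∣ (Subgroup.centralizer (P : Set G)).relIndex (blockT P c)) {n : G}
    (hn : n ∈ F.focalSubgroup) (hfix : ∀ y ∈ blockT P c, y * n * y⁻¹ = n) (hnP : n ∈ P) :
    n = 1 := by
  classical
  have : Fact p.Prime := ⟨hM.1⟩
  letI : CommGroup ↥P :=
    { (inferInstance : Group ↥P) with
      mul_comm := fun a b => Subtype.ext (hab a a.2 b b.2) }
  haveI := Fintype.ofFinite (inertAut P c)
  -- the product over the inertial quotient
  let τ : ↥P →* ↥P :=
    { toFun := fun x => ∏ w : inertAut P c, (w : MulAut P) x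
      map_one' := Finset.prod_eq_one fun w _ => map_one _
      map_mul' := fun x y => by
        rw [← Finset.prod_mul_distrib]
        exact Finset.prod_congr rfl fun w _ => map_mul _ x y }
  have hτ : ∀ v : inertAut P c, ∀ x, τ ((v : MulAut P) x) = τ x := fun v x =>
    Fintype.prod_equiv (Equiv.mulRight v) _ _ fun w => rfl
  have hker : F.focalSubgroup ≤ τ.ker.map P.subtype := by
    rw [FusionSystem.focalSubgroup, Subgroup.closure_le]
    rintro _ ⟨Q, φ, q, hφ, rfl⟩
    obtain ⟨hQP, g, hgv, -, hg⟩ := (hF.2 Q φ).mp hφ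
    obtain ⟨y, hy, hyv⟩ := exists_blockT_agree hM hmax hab hg
    have hval : φ q = y * (q : G) * y⁻¹ := (hgv q).trans (hyv _ q.2)
    have hq : (q : G) ∈ P := hQP q.2
    refine ⟨(⟨q, hq⟩ : ↥P)⁻¹ * autT P c ⟨y, hy⟩ ⟨q, hq⟩, ?_, ?_⟩
    · show τ _ = 1
      rw [map_mul, map_inv, hτ ⟨_, autT_mem hy⟩, inv_mul_cancel]
    · show (q : G)⁻¹ * (y * q * y⁻¹) = _
      rw [hval]
  obtain ⟨x, hx, hxn⟩ := hker hn
  have hxe : x = ⟨n, hnP⟩ := Subtype.ext hxn
  subst hxe
  have hpow : (⟨n, hnP⟩ : ↥P) ^ Nat.card (inertAut P c) = 1 := by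
    refine Eq.trans ?_ (show τ _ = 1 from hx)
    show _ = ∏ w : inertAut P c, (w : MulAut P) _
    rw [Finset.prod_congr rfl (g := fun _ => (⟨n, hnP⟩ : ↥P)) fun w _ => ?_, Finset.prod_const,
      Finset.card_univ, Nat.card_eq_fintype_card]
    obtain ⟨y, hy, hyu⟩ := exists_of_mem_inertAut w.2
    exact Subtype.ext ((hyu _).trans (hfix y hy))
  obtain ⟨k, hk⟩ := IsPGroup.iff_orderOf.mp hmax.1.1.1 ⟨n, hnP⟩
  have h1 := orderOf_dvd_of_pow_eq_one hpow
  rw [hk, card_inertAut] at h1
  have hk0 : k = 0 := by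
    by_contra h
    exact hm ((dvd_pow_self p h).trans h1)
  rw [hk0, pow_zero, orderOf_eq_one_iff] at hk
  exact congrArg Subtype.val hk

variable (p M P c) in
/-- The term of `z`. -/
noncomputable def term (z : ↥P) : ℕ :=
  stabCount (blockT P c) (z : G) * blockRank p (bk p M P c (z : G))

/-- The sum of the terms is `|T| k(B)`. -/
theorem sum_term [Fintype ↥P] (hM : IsPModular p M) (hmax : IsMaximalBrauerPair p M B P c)
    (hab : ∀ x ∈ P, ∀ y ∈ P, x * y = y * x) :
    ∑ z : ↥P, term p M P c z = Nat.card (blockT P c) * Nat.card B := by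
  classical
  have hF := isBlockFusionSystemOn_blockFusion hM hmax
  have h := card_mul_trace_eq_rankSum hM hmax hab hF (lam := 1) (fun _ _ => rfl)
  rw [Finset.sum_congr rfl (g := fun _ => (1 : ℂ)) fun χ hχ => by
    rw [starChar_one hM hmax (Finset.mem_filter.mp hχ).2, Char.classInner_irr_self χ.2]] at h
  apply Nat.cast_injective (R := ℂ)
  rw [Nat.cast_mul]
  simp only [Finset.sum_const, nsmul_one, rankSum, MonoidHom.one_apply, Units.val_one, one_mul] at h
  rw [← Fintype.card_subtype, ← Nat.card_eq_fintype_card] at h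
  push_cast [term]
  exact h.symm

/-- A nontrivial character has trace zero. -/
theorem rankSum_eq_zero [Fintype ↥P] (hM : IsPModular p M)
    (hmax : IsMaximalBrauerPair p M B P c) (hab : ∀ x ∈ P, ∀ y ∈ P, x * y = y * x)
    (hF : IsBlockFusionSystemOn p M B P c F) {lam : ↥P →* ℂˣ}
    (hlam : ∀ n ∈ F.focalSubgroup.subgroupOf P, lam n = 1) (hne : lam ≠ 1) :
    rankSum p M P c (fun z => (lam z : ℂ)) = 0 := by
  classical
  rw [← card_mul_trace_eq_rankSum hM hmax hab hF hlam]
  refine mul_eq_zero_of_right _ (Finset.sum_eq_zero fun χ hχ => ?_)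
  have hχB := (Finset.mem_filter.mp hχ).2
  obtain ⟨ψ, hψ, -, -⟩ := exists_starIrr hM hF hlam hχB
  rw [← hψ]
  refine Char.classInner_irr_ne ψ.2 χ.2 fun he => hne (MonoidHom.ext fun y => ?_)
  obtain ⟨b, hb⟩ := exists_le_top hM hmax.1.1 (Subgroup.zpowers_le.mpr y.2)
  exact lam_eq_one_of_fixed hM hF hlam (hψ.symm.trans he) hb
    (exists_part_ne_zero_of_center hM hmax hχB (fun z hz => hab z hz y y.2) hb)

/-- All cosets of the focal subgroup have the same sum. -/
theorem index_mul_coset_sum [Fintype ↥P] (hM : IsPModular p M)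
    (hmax : IsMaximalBrauerPair p M B P c) (hab : ∀ x ∈ P, ∀ y ∈ P, x * y = y * x)
    (hF : IsBlockFusionSystemOn p M B P c F) (N : Subgroup ↥P)
    (hN : F.focalSubgroup.subgroupOf P = N) [DecidablePred (· ∈ N)] (a : ↥P) :
    N.index * ∑ n : ↥P with n ∈ N, term p M P c (n * a) = Nat.card (blockT P c) * Nat.card B := by
  classical
  haveI : N.Normal := hN ▸ focal_normal F
  haveI : Finite (↥P →* ℂˣ) := Finite.of_equiv _ (Char.linearEquiv (G := ↥P))
  haveI := Fintype.ofFinite (Char.LinTriv N)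
  obtain ⟨hcard, hsum⟩ := Char.sum_linTriv N (hN ▸ focal_comm F)
  have horth : ∀ x : ↥P, ∑ β : Char.LinTriv N, (β.1 x : ℂ) =
      if x ∈ N then (N.index : ℂ) else 0 := by
    intro x
    split_ifs with hx
    · rw [Finset.sum_congr rfl (g := fun _ => (1 : ℂ)) fun β _ => by rw [β.2 x hx, Units.val_one],
        Finset.sum_const, Finset.card_univ, nsmul_one, hcard]
    · rw [← Finset.sum_apply x Finset.univ (fun β : Char.LinTriv N => fun g => (β.1 g : ℂ)), ← hsum,
        Char.indFun_notMem_of_normal N _ hx]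
  apply Nat.cast_injective (R := ℂ)
  have key : ∑ β : Char.LinTriv N, (β.1 a⁻¹ : ℂ) * rankSum p M P c (fun z => (β.1 z : ℂ)) =
      (Nat.card (blockT P c) * Nat.card B : ℕ) := by
    rw [Finset.sum_eq_single (⟨1, fun _ _ => rfl⟩ : Char.LinTriv N)]
    · rw [← sum_term hM hmax hab]
      simp [rankSum, term]
    · intro β _ hβ
      rw [rankSum_eq_zero hM hmax hab hF (fun n hn => β.2 n (hN ▸ hn)) (fun h => hβ (Subtype.ext h)), mul_zero]
    · exact fun h => absurd (Finset.mem_univ _) h
  rw [← key]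
  simp only [rankSum, Finset.mul_sum]
  rw [Finset.sum_comm]
  simp only [Nat.cast_mul, Nat.cast_sum, ← mul_assoc, ← Units.val_mul, ← map_mul]
  simp only [← Finset.sum_mul, horth, ite_mul, zero_mul]
  rw [← Finset.sum_filter]
  refine Finset.sum_bij' (fun n _ => n * a) (fun z _ => z * a⁻¹) ?_ ?_ ?_ ?_ ?_
  · intro n hn
    refine Finset.mem_filter.mpr ⟨Finset.mem_univ _, ?_⟩
    rw [show a⁻¹ * (n * a) = n from Subtype.ext (by
      show (a : G)⁻¹ * ((n : G) * a) = n
      rw [hab n n.2 a a.2, inv_mul_cancel_left])]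
    exact (Finset.mem_filter.mp hn).2
  · intro z hz
    refine Finset.mem_filter.mpr ⟨Finset.mem_univ _, ?_⟩
    rw [show z * a⁻¹ = a⁻¹ * z from Subtype.ext (hab _ z.2 _ a⁻¹.2)]
    exact (Finset.mem_filter.mp hz).2
  · exact fun n _ => mul_inv_cancel_right n a
  · exact fun z _ => inv_mul_cancel_right z a
  · intro n _
    simp [term, mul_assoc]

end CfsgLib.Blocks.Watanabe
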