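import Cfsg.Agent.Lib.Blocks.AbelianLocal
import Cfsg.Agent.Lib.Blocks.SubgroupRankSum
import Cfsg.Agent.Lib.Blocks.FreeQuotient.Free

/-!
# Reading the pairs below `(P, c)` inside the centralizer of a subgroup of `P`

For `Q ≤ P` abelian, the block of `C_G(Q)` below `(P, c)` has the maximal pair `(P, c)`, and the
blocks below it are those of `G`.
-/

set_option autoImplicit false
set_option linter.unusedSectionVars false
set_option linter.style.haveILetI false

namespace CfsgLib.Blocks.Watanabe

open Cfsg CfsgLib.Blocks.FreeQuot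
open scoped ComplexConjugate CfsgLib.Char

variable {p : ℕ} {M : Ideal AlgInt} [M.IsPrime] {G : Type*} [Group G] [Fintype G] {P : Subgroup G}
  {c : Set (IrrCharacter (Subgroup.centralizer (P : Set G)))} {B : Set (IrrCharacter G)}

/-- The defect group of a block below `(P, c)`. -/
theorem below_isMaximal (hM : IsPModular p M) (hmax : IsMaximalBrauerPair p M B P c)
    (hab : ∀ x ∈ P, ∀ y ∈ P, x * y = y * x) {Q : Subgroup G}
    [Fintype (Subgroup.centralizer (Q : Set G))]
    {b : Set (IrrCharacter (Subgroup.centralizer (Q : Set G)))}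
    (hle : SubpairLE p M Q b P c) (hPH : P ≤ Subgroup.centralizer (Q : Set G)) :
    IsMaximalBrauerPair p M b (P.subgroupOf (Subgroup.centralizer (Q : Set G)))
      (irrEquiv (centTop (SubpairLE.le hle) hPH).symm '' c) := by
  classical
  have : Fact p.Prime := ⟨hM.1⟩
  obtain ⟨-, hpair⟩ := below_data hM hmax.1.1 hab hPH hle
  have hb : IsPBlock M b := (SubpairLE.isBrauerPair hle hmax.1.1).2
  obtain ⟨D, hD⟩ := exists_isDefectGroup hM hb
  obtain ⟨e, he⟩ := exists_pair_of_defectGroup hM hb hD
  obtain ⟨x, hx⟩ := exists_conjPair_le_maximal hM (isMaximalBrauerPair_of_defectGroup hM hD he) hpair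
  have hle' : (P.subgroupOf (Subgroup.centralizer (Q : Set G))).map (MulAut.conj x).toMonoidHom ≤ D := PairLE.fst_le hx
  obtain ⟨g, hg, hcard⟩ := exists_conj_centralizer_eq hM hmax hle
  have h1 : Nat.card D ≤ Nat.card P := by
    rw [IsDefectGroup.card_eq hM hb hD, ← hcard]
    exact Subgroup.card_le_of_le inf_le_left
  have h2 : (P.subgroupOf (Subgroup.centralizer (Q : Set G))).map (MulAut.conj x).toMonoidHom = D := by
    refine Subgroup.eq_of_le_of_card_ge hle' ?_
    rw [card_map_conj, Nat.card_congr (Subgroup.subgroupOfEquivOfLe hPH).toEquiv]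
    exact h1
  have h3 := IsDefectGroup.conj hM (h2 ▸ hD) x⁻¹
  rw [map_conj_map, inv_mul_cancel, map_conj_one] at h3
  exact isMaximalBrauerPair_of_defectGroup hM h3 hpair

theorem mem_subgroupOf_normalizer_iff {K : Subgroup G} (hPH : P ≤ K) (y : K) :
    y ∈ Subgroup.normalizer ((P.subgroupOf K : Subgroup K) : Set K) ↔
      (y : G) ∈ Subgroup.normalizer (P : Set G) := by
  rw [Subgroup.mem_normalizer_iff, Subgroup.mem_normalizer_iff]
  constructor
  · intro h z
    constructor
    · intro hz
      have := (h ⟨z, hPH hz⟩).mp hz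
      simpa [Subgroup.mem_subgroupOf] using this
    · intro hz
      have hzK : z ∈ K := by
        have h' := mul_mem (mul_mem (inv_mem y.2) (hPH hz)) y.2
        simpa [mul_assoc] using h'
      have := (h ⟨z, hzK⟩).mpr (by simpa [Subgroup.mem_subgroupOf] using hz)
      simpa [Subgroup.mem_subgroupOf] using this
  · intro h z
    simp only [Subgroup.mem_subgroupOf, Subgroup.coe_mul, Subgroup.coe_inv]
    exact h z

/-- The stabilizer inside `C_G(Q)`. -/
theorem mem_blockT_below_iff {Q : Subgroup G} (hQP : Q ≤ P)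
    (hPH : P ≤ Subgroup.centralizer (Q : Set G)) (y : Subgroup.centralizer (Q : Set G))
    [Fintype (Subgroup.centralizer (Q : Set G))] :
    y ∈ blockT (P.subgroupOf (Subgroup.centralizer (Q : Set G)))
        (irrEquiv (centTop hQP hPH).symm '' c) ↔ (y : G) ∈ blockT P c := by
  rw [mem_blockT, mem_blockT, mem_subgroupOf_normalizer_iff hPH]
  refine and_congr_right fun hyN => ?_
  have hyN' := (mem_subgroupOf_normalizer_iff hPH y).mpr hyN
  constructor
  · intro hst
    refine ⟨mem_normalizer_centralizer hyN, fun χ hχ => ?_⟩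
    obtain ⟨χ', ⟨η, hη, rfl⟩, hval⟩ := hst.2 _ ⟨χ, hχ, rfl⟩
    refine ⟨η, hη, fun a a' ha => ?_⟩
    have h := hval ((centTop hQP hPH).symm a) ((centTop hQP hPH).symm a')
      (Subtype.ext ha)
    rw [irrEquiv_apply, irrEquiv_apply] at h
    exact h
  · intro hst
    refine ⟨mem_normalizer_centralizer hyN', ?_⟩
    rintro _ ⟨χ, hχ, rfl⟩
    obtain ⟨χ', hχ', hval⟩ := hst.2 χ hχ
    exact ⟨_, ⟨χ', hχ', rfl⟩, fun a b hab =>
      hval (centTop hQP hPH a) (centTop hQP hPH b) (congrArg Subtype.val hab)⟩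

/-- The inertial quotient inside `C_G(Q)` has order prime to `p`. -/
theorem not_dvd_relIndex_below (hM : IsPModular p M) {Q : Subgroup G}
    [Fintype (Subgroup.centralizer (Q : Set G))] (hQP : Q ≤ P)
    (hPH : P ≤ Subgroup.centralizer (Q : Set G))
    (hm : ¬ p ∣ (Subgroup.centralizer (P : Set G)).relIndex (blockT P c)) :
    ¬ p ∣ (Subgroup.centralizer
      ((P.subgroupOf (Subgroup.centralizer (Q : Set G)) :
        Subgroup (Subgroup.centralizer (Q : Set G))) : Set (Subgroup.centralizer (Q : Set G)))).relIndex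
      (blockT (P.subgroupOf (Subgroup.centralizer (Q : Set G)))
        (irrEquiv (centTop hQP hPH).symm '' c)) := by
  have : Fact p.Prime := ⟨hM.1⟩
  have : ((Subgroup.centralizer (P : Set G)).subgroupOf (blockT P c)).Normal :=
    Subgroup.normal_subgroupOf_of_le_normalizer
      (blockT_le_normalizer.trans fun a ha => mem_normalizer_centralizer ha)
  have : ((Subgroup.centralizer
      ((P.subgroupOf (Subgroup.centralizer (Q : Set G)) :
        Subgroup (Subgroup.centralizer (Q : Set G))) : Set (Subgroup.centralizer (Q : Set G)))).subgroupOf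
      (blockT (P.subgroupOf (Subgroup.centralizer (Q : Set G)))
        (irrEquiv (centTop hQP hPH).symm '' c))).Normal :=
    Subgroup.normal_subgroupOf_of_le_normalizer
      (blockT_le_normalizer.trans fun a ha => mem_normalizer_centralizer ha)
  rw [not_dvd_relIndex_iff centralizer_le_blockT] at hm ⊢
  intro y hy hyp
  have h := hm (y : G) ((mem_blockT_below_iff hQP hPH y).mp hy)
    (by simpa only [Subgroup.orderOf_coe] using hyp)
  exact fun z hz => Subtype.ext (h _ hz)

/-- The centralizer of `z` inside `C_G(Q)`. -/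
def czEquiv {Q R : Subgroup G} (z : Subgroup.centralizer (Q : Set G))
    (hR : R = Q ⊔ Subgroup.zpowers (z : G)) :
    cz z ≃* Subgroup.centralizer (R : Set G) where
  toFun k := ⟨((k : Subgroup.centralizer (Q : Set G)) : G), by
    rw [hR, Subgroup.sup_eq_closure, Subgroup.centralizer_closure]
    rintro a (ha | ha)
    · exact (k : Subgroup.centralizer (Q : Set G)).2 a ha
    · obtain ⟨n, rfl⟩ := Subgroup.mem_zpowers_iff.mp ha
      have h := k.2 (z ^ n) (Subgroup.zpow_mem_zpowers z n)
      simpa using congrArg Subtype.val h⟩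
  invFun d := ⟨⟨(d : G), fun a ha => d.2 a (hR ▸ Subgroup.mem_sup_left ha)⟩, fun a ha => by
    obtain ⟨n, rfl⟩ := Subgroup.mem_zpowers_iff.mp ha
    refine Subtype.ext ?_
    simpa using d.2 ((z : G) ^ n) (hR ▸ Subgroup.mem_sup_right (Subgroup.zpow_mem_zpowers _ n))⟩
  left_inv _ := rfl
  right_inv _ := rfl
  map_mul' _ _ := rfl

theorem czEquiv_coe {Q R : Subgroup G} (z : Subgroup.centralizer (Q : Set G))
    (hR : R = Q ⊔ Subgroup.zpowers (z : G)) (k : cz z) :
    ((czEquiv z hR k : Subgroup.centralizer (R : Set G)) : G) =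
      ((k : Subgroup.centralizer (Q : Set G)) : G) := rfl

/-- An induced block inside `C_G(Q)`, read in `G`. -/
theorem isInducedBlockIn_map {K : Subgroup G} {H' L' : Subgroup K} {H L : Subgroup G}
    (ψ : H' ≃* H) (φ : L' ≃* L) (hψ : ∀ h, ((ψ h : H) : G) = ((h : K) : G))
    (hφ : ∀ l, ((φ l : L) : G) = ((l : K) : G)) {e : Set (IrrCharacter L)}
    (he : IsPBlock M e) {f : Set (IrrCharacter H')}
    (h : IsInducedBlockIn M H' L' (irrEquiv φ.symm '' e) f) :
    IsInducedBlockIn M H L e (irrEquiv ψ '' f) := by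
  classical
  refine ⟨he, isPBlock_image_irrEquiv ψ h.2.1, fun ξ hξ χ' hχ' g => ?_⟩
  obtain ⟨χ, hχ, rfl⟩ := hχ'
  obtain ⟨k, rfl⟩ := ψ.surjective g
  have h1 := h.2.2 _ ⟨ξ, hξ, rfl⟩ χ hχ k
  have hc : centralChar (irrEquiv ψ χ : H → ℂ) (ψ k) = centralChar (χ : H' → ℂ) k := by
    rw [centralChar, centralChar, irrEquiv_apply, ← map_one ψ, irrEquiv_apply]
    congr 2
    rw [show ({ψ k} : Set H) = ψ '' {k} by simp]
    congr 1
    have hmap : Subgroup.centralizer (ψ '' {k}) =
        (Subgroup.centralizer ({k} : Set H')).map ψ.toMonoidHom := by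
      ext d
      obtain ⟨d', rfl⟩ := ψ.surjective d
      rw [Subgroup.mem_map_equiv]
      simp only [Set.image_singleton, Subgroup.mem_centralizer_singleton_iff,
        MulEquiv.symm_apply_apply, ← map_mul, EmbeddingLike.apply_eq_iff_eq]
    rw [hmap]
    exact Subgroup.index_map_equiv _ ψ
  have hi : inducedCentralCharIn H L (ξ : L → ℂ) ((ψ k : H) : G) =
      inducedCentralCharIn H' L' (irrEquiv φ.symm ξ : L' → ℂ) (k : K) := by
    rw [inducedCentralCharIn, inducedCentralCharIn, finsum_mem_def, finsum_mem_def,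
      ← finsum_comp_equiv φ.toEquiv]
    refine finsum_congr fun y => ?_
    have e1 : (irrEquiv φ.symm ξ : L' → ℂ) y = (ξ : L → ℂ) (φ y) := rfl
    have e2 : (irrEquiv φ.symm ξ : L' → ℂ) 1 = (ξ : L → ℂ) 1 := by
      show (ξ : L → ℂ) (φ 1) = _
      rw [map_one]
    have hiff : (∃ x : H, (x : G) * ((φ y : L) : G) * (x : G)⁻¹ = ((ψ k : H) : G)) ↔
        ∃ x : H', (x : K) * (y : K) * (x : K)⁻¹ = (k : K) := by
      rw [ψ.surjective.exists]
      refine exists_congr fun x => ?_
      rw [hψ, hψ, hφ, Subtype.ext_iff, Subgroup.coe_mul, Subgroup.coe_mul, Subgroup.coe_inv]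
    show Set.indicator _ _ (φ y) = Set.indicator _ _ y
    simp only [Set.indicator_apply, Set.mem_ofPred_eq, hiff, e1, e2]
  rw [hi, hc]
  exact h1

/-- The ranks of the blocks below `(P, c)` seen in `C_G(Q)`. -/
theorem blockRank_bk_below (hM : IsPModular p M) (hmax : IsMaximalBrauerPair p M B P c)
    (hab : ∀ x ∈ P, ∀ y ∈ P, x * y = y * x) {Q R : Subgroup G}
    [Fintype (Subgroup.centralizer (Q : Set G))] (hQP : Q ≤ P)
    (hPH : P ≤ Subgroup.centralizer (Q : Set G))
    {b : Set (IrrCharacter (Subgroup.centralizer (Q : Set G)))} (hle : SubpairLE p M Q b P c)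
    (z : Subgroup.centralizer (Q : Set G)) (hz : (z : G) ∈ P)
    (hR : R = Q ⊔ Subgroup.zpowers (z : G))
    {f : Set (IrrCharacter (Subgroup.centralizer (R : Set G)))} (hf : SubpairLE p M R f P c) :
    blockRank p (bk p M (P.subgroupOf (Subgroup.centralizer (Q : Set G)))
        (irrEquiv (centTop hQP hPH).symm '' c) z) = blockRank p f := by
  classical
  have hmaxK := below_isMaximal hM hmax hab hle hPH
  set P' := P.subgroupOf (Subgroup.centralizer (Q : Set G))
  set c' := irrEquiv (centTop hQP hPH).symm '' c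
  have hPe' : IsBrauerPair p M P' c' := hmaxK.1.1
  have habK : ∀ a ∈ P', ∀ b ∈ P', a * b = b * a := fun a ha b hb =>
    Subtype.ext (hab _ ha _ hb)
  have hzP' : z ∈ P' := hz
  have hPz : P' ≤ cz z := fun a ha b hb =>
    habK b (Subgroup.zpowers_le.mpr hzP' hb) a ha
  let := Fintype.ofFinite (cz z)
  obtain ⟨hindK, -⟩ := below_data hM hPe' habK hPz (bk_subpair hM hPe' hzP')
  have hRP : R ≤ P := hR ▸ sup_le hQP (Subgroup.zpowers_le.mpr hz)
  have hPR : P ≤ Subgroup.centralizer (R : Set G) := fun a ha b hb => hab b (hRP hb) a ha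
  obtain ⟨hind, -⟩ := below_data hM hmax.1.1 hab hPR hf
  have hmap := isInducedBlockIn_map (czEquiv z hR) (centTop hQP hPH) (czEquiv_coe z hR)
    (fun _ => rfl) hmax.1.1.2 hindK
  rw [IsInducedBlockIn.unique hind hmap, RankSum.blockRank_image_irrEquiv]

/-- The rank of the block below `(P, c)` at the identity. -/
theorem blockRank_bk_one (hM : IsPModular p M) (hmax : IsMaximalBrauerPair p M B P c) :
    blockRank p (bk p M P c (1 : G)) = blockRank p B := by
  classical
  have hmem : ∀ g : G, g ∈ cz (1 : G) := fun g => mem_centralizer_zpowers (Commute.one_left g)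
  let φ : cz (1 : G) ≃* G :=
    { toFun := fun k => k
      invFun := fun g => ⟨g, hmem g⟩
      left_inv := fun _ => rfl
      right_inv := fun _ => rfl
      map_mul' := fun _ _ => rfl }
  have hind := bk_induced hM hmax (one_mem P)
  have hblk := isPBlock_image_irrEquiv φ hind.1
  obtain ⟨χ, hχ⟩ := IsPBlock.nonempty hmax.1.2.1
  obtain ⟨ξ, hξ⟩ := IsPBlock.nonempty hind.1
  have hξB : irrEquiv φ ξ ∈ B := by
    refine IsPBlock.mem_of_sameBlock hmax.1.2.1 hχ fun g => ?_
    have h := hind.2.2 ξ hξ χ hχ g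
    have e : inducedCentralChar (cz (1 : G)) (ξ : cz (1 : G) → ℂ) g =
        centralChar (irrEquiv φ ξ : G → ℂ) g := by
      rw [inducedCentralChar, centralChar, finsum_mem_def, ← finsum_comp_equiv φ.symm.toEquiv,
        finsum_eq_sum_of_fintype]
      show ∑ i : G, Set.indicator _ _ (φ.symm i) = _
      simp only [Set.indicator_apply, Set.mem_ofPred_eq]
      rw [Finset.sum_congr rfl (g := fun i => if IsConj g i then
        (irrEquiv φ ξ : G → ℂ) g / (irrEquiv φ ξ : G → ℂ) 1 else 0) fun i _ => ?_]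
      · rw [← Finset.sum_filter, Finset.sum_const, nsmul_eq_mul, index_centralizer_eq_card,
          mul_div_assoc]
        congr 1
        rw [Nat.cast_inj, Nat.card_eq_fintype_card, Fintype.card_subtype]
      · show (if IsConj g i then (irrEquiv φ ξ : G → ℂ) i / (ξ : cz (1 : G) → ℂ) 1 else 0) = _
        split_ifs with hi
        · obtain ⟨x, rfl⟩ := isConj_iff.mp hi
          rw [irr_classFunction (irrEquiv φ ξ) g x]
          rfl
        · rfl
    rw [e] at h
    first
      | exact h
      | exact memLocalIdeal_sub_comm h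
  rw [← RankSum.blockRank_image_irrEquiv φ,
    IsPBlock.eq_of_mem_of_mem hblk hmax.1.2.1 ⟨ξ, hξ, rfl⟩ hξB]

end CfsgLib.Blocks.Watanabe
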