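import Cfsg.Agent.Lib.Blocks.HeightCount
import Cfsg.Agent.Lib.Blocks.Rank
import Cfsg.Agent.Lib.Blocks.SubgroupRankSum
import Cfsg.Agent.Lib.Blocks.FreeQuotient.Free

/-!
# Weighted sums of the ranks of the subsections of a block with abelian defect group

For a linear character `lam` of an abelian defect group `P` trivial on the focal subgroup, the
trace of the permutation of the members of `B` given by `lam` is the sum over `z ∈ P` of
`|C_T(z)| lam(z) l(b_z) / |T|`.  The permutation has no fixed point for `lam ≠ 1`.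
-/

set_option autoImplicit false
set_option linter.unusedSectionVars false
set_option linter.style.haveILetI false

namespace CfsgLib.Blocks.Watanabe

open Cfsg CfsgLib.Blocks.FreeQuot
open scoped ComplexConjugate CfsgLib.Char

variable {p : ℕ} {M : Ideal AlgInt} [M.IsPrime] {G : Type*} [Group G] [Fintype G] {P : Subgroup G}
  {c : Set (IrrCharacter (Subgroup.centralizer (P : Set G)))} {B : Set (IrrCharacter G)}
  {F : FusionSystem P}

variable (p) in
/-- The regular rank of the block of a pair. -/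
noncomputable def pairRank (a : BrauerPairIdx G) : ℕ := blockRank p a.2

theorem pairRank_conjPair (x : G) (a : BrauerPairIdx G) :
    pairRank p (conjPair x a) = pairRank p a := by
  obtain ⟨Q, f⟩ := a
  show blockRank p (conjSet x (Subgroup.centralizer (Q : Set G))
    (Subgroup.centralizer ((Q.map (MulAut.conj x).toMonoidHom : Subgroup G) : Set G)) f) = _
  rw [conjSet_eq_image (centralizer_conj_iff rfl)]
  exact RankSum.blockRank_image_irrEquiv (conjIso (centralizer_conj_iff rfl)) f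

/-- The elements of the stabilizer fixing `z`, counted. -/
noncomputable def stabCount (T : Subgroup G) (z : G) : ℕ :=
  Nat.card {t : T // (t : G) * z * (t : G)⁻¹ = z}

/-- The sum over one section of the block. -/
theorem sum_block_blockPart (hM : IsPModular p M) (hB : IsPBlock M B) [DecidablePred (· ∈ B)]
    {v : G} (hv : ∃ k : ℕ, orderOf v = p ^ k) [Fintype (cz v)]
    [DecidablePred fun s : cz v => IsPRegular p s]
    {b : Set (IrrCharacter (cz v))} (hb : IsInducedBlock M (cz v) b B) :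
    ∑ χ : IrrCharacter G with χ ∈ B, ∑ s : cz v with IsPRegular p s,
        blockPart b (sect (χ : G → ℂ) v) s * conj (sect (χ : G → ℂ) v s) =
      (Nat.card (cz v) : ℂ) * (blockRank p b : ℂ) := by
  have key : ∀ (K : Subgroup G) [Fintype K] [DecidablePred fun s : K => IsPRegular p s],
      K = Subgroup.centralizer ({v} : Set G) → ∀ b : Set (IrrCharacter K),
      IsInducedBlock M K b B →
      ∑ χ : IrrCharacter G with χ ∈ B, ∑ s : K with IsPRegular p s,
          blockPart b (fun k : K => (χ : G → ℂ) (v * (k : G))) s *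
            conj ((χ : G → ℂ) (v * (s : G))) = (Nat.card K : ℂ) * (blockRank p b : ℂ) := by
    intro K _ _ hK b hb
    subst hK
    classical
    rw [Finset.sum_comm, card_mul_blockRank hM (IsPBlock.isBlockUnion hb.1), Finset.sum_filter]
    refine Finset.sum_congr rfl fun s _ => ?_
    rw [sum_mem_eq_filter]
    split_ifs with hs
    · rw [sum_blockPart_mul_conj_value hM hv hB hb hs hs]
      exact Finset.sum_congr rfl fun ξ _ => by rw [regPart_of_regular hs]
    · exact (Finset.sum_eq_zero fun ξ _ => by rw [regPart_of_singular hs, zero_mul]).symm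
  exact key (cz v) (cz_eq v) b hb

/-- The trace of `starChar` on the block, as a sum over all its subsections. -/
theorem card_mul_trace (hM : IsPModular p M) (hB : IsPBlock M B) [DecidablePred (· ∈ B)]
    [DecidablePred fun v : G => ∃ k : ℕ, orderOf v = p ^ k]
    (w : G → BrauerPairIdx G → ℂ) (S : ∀ v : G, Finset (Set (IrrCharacter (cz v))))
    (hS : ∀ v b, b ∈ S v ↔ IsInducedBlock M (cz v) b B) :
    (Nat.card G : ℂ) * ∑ χ : IrrCharacter G with χ ∈ B,
        classInner (starChar p M (χ : G → ℂ) w) (χ : G → ℂ) =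
      ∑ v : G with ∃ k : ℕ, orderOf v = p ^ k, ∑ b ∈ S v,
        w v ⟨Subgroup.zpowers v, b⟩ * ((Nat.card (cz v) : ℂ) * (blockRank p b : ℂ)) := by
  classical
  have hG : (Nat.card G : ℂ) ≠ 0 := Nat.cast_ne_zero.mpr Nat.card_pos.ne'
  simp only [classInner]
  rw [← Finset.mul_sum, ← mul_assoc, mul_inv_cancel₀ hG, one_mul]
  rw [Finset.sum_congr rfl fun χ _ => sum_sections hM.1 _, Finset.sum_comm]
  refine Finset.sum_congr (by congr) fun v hv => ?_
  have hv' := (Finset.mem_filter.mp hv).2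
  trans ∑ b ∈ S v, w v ⟨Subgroup.zpowers v, b⟩ *
      ∑ χ : IrrCharacter G with χ ∈ B, ∑ s : cz v with IsPRegular p s,
        blockPart b (sect (χ : G → ℂ) v) s * conj (sect (χ : G → ℂ) v s)
  swap
  · exact Finset.sum_congr rfl fun b hb => by rw [sum_block_blockPart hM hB hv' ((hS v b).mp hb)]
  simp only [Finset.mul_sum]
  conv_rhs => rw [Finset.sum_comm]
  refine Finset.sum_congr rfl fun χ hχ => ?_
  have hχB := (Finset.mem_filter.mp hχ).2
  conv_rhs => rw [Finset.sum_comm]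
  refine Finset.sum_congr (by congr) fun s hs => ?_
  have hs' := (Finset.mem_filter.mp hs).2
  rw [starChar_section hM.1 (irr_classFunction χ) w hv' hs', Finset.sum_mul]
  refine (Finset.sum_subset (fun b hb => mem_subBlocks.mpr ((hS v b).mp hb).1) ?_).symm.trans
    (Finset.sum_congr rfl fun b _ => mul_assoc _ _ _)
  intro b hb hbS
  rw [blockPart_sect_eq_zero hM hB hχB hv' (mem_subBlocks.mp hb) (fun hp' =>
    hbS ((hS v b).mpr ((isBrauerPairOf_iff_induced hM hv' (mem_subBlocks.mp hb)).mp hp'))) hs']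
  simp

variable (p M P c) in
/-- A point below `(P, c)` moved by an element. -/
noncomputable def movePt (a : G × ↥P) : G × BrauerPairIdx G :=
  (a.1 * (a.2 : G) * a.1⁻¹,
    conjPair a.1 ⟨Subgroup.zpowers (a.2 : G), bk p M P c (a.2 : G)⟩)

theorem cz_fix {v x : G} (hx : x ∈ cz v) : x * v * x⁻¹ = v := by
  rw [cz_eq, Subgroup.mem_centralizer_singleton_iff] at hx
  rw [hx, mul_inv_cancel_right]

theorem conjPair_cz {v x : G} (hx : x ∈ cz v) (b : Set (IrrCharacter (cz v))) :
    conjPair x (⟨Subgroup.zpowers v, b⟩ : BrauerPairIdx G) = ⟨Subgroup.zpowers v, b⟩ := by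
  rw [conjPair_zpowers (cz_fix hx), conjSet_of_mem hx]

theorem movePt_mul (hM : IsPModular p M) (hPe : IsBrauerPair p M P c) {x y : G}
    (hy : y ∈ blockT P c) (z : ↥P) :
    movePt p M P c (x * y⁻¹, ⟨y * z * y⁻¹,
      (Subgroup.mem_normalizer_iff.mp (blockT_le_normalizer hy) _).mp z.2⟩) =
      movePt p M P c (x, z) := by
  refine Prod.ext ?_ ?_
  · show x * y⁻¹ * (y * z * y⁻¹) * (x * y⁻¹)⁻¹ = x * z * x⁻¹
    group
  · show conjPair (x * y⁻¹)
      ⟨Subgroup.zpowers (y * (z : G) * y⁻¹), bk p M P c (y * (z : G) * y⁻¹)⟩ = _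
    rw [← conjSet_bk_blockT hM hPe hy z.2, ← conjPair_zpowers rfl, conjPair_conjPair,
      inv_mul_cancel_right]
    rfl

/-- Points moved to the same subsection. -/
theorem sum_stabCount_fiber (hM : IsPModular p M) (hmax : IsMaximalBrauerPair p M B P c)
    (hab : ∀ x ∈ P, ∀ y ∈ P, x * y = y * x) {v : G} {b : Set (IrrCharacter (cz v))}
    {s : Finset (G × ↥P)}
    (hs : ∀ a, a ∈ s ↔ movePt p M P c a = (v, ⟨Subgroup.zpowers v, b⟩)) (hne : s.Nonempty) :
    ∑ a ∈ s, stabCount (blockT P c) (a.2 : G) =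
      Nat.card (cz v) * Nat.card (blockT P c) := by
  classical
  obtain ⟨⟨x₀, z₀⟩, h₀⟩ := hne
  rw [hs] at h₀
  set T := blockT P c
  have hPe := hmax.1.1
  have hv0 : x₀ * z₀ * x₀⁻¹ = v := congrArg Prod.fst h₀
  let μ : cz v × T → G × ↥P := fun k => ((k.1 : G) * x₀ * (k.2 : G)⁻¹,
    ⟨(k.2 : G) * z₀ * (k.2 : G)⁻¹,
      (Subgroup.mem_normalizer_iff.mp (blockT_le_normalizer k.2.2) _).mp z₀.2⟩)
  have := Fintype.ofFinite (cz v)
  have := Fintype.ofFinite T
  have hμ : ∀ k, μ k ∈ s := fun ⟨k, y⟩ => by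
    rw [hs]
    have h1 : movePt p M P c (μ (k, y)) = movePt p M P c ((k : G) * x₀, z₀) :=
      movePt_mul hM hPe y.2 z₀
    rw [h1]
    refine Prod.ext ?_ ?_
    · show (k : G) * x₀ * z₀ * ((k : G) * x₀)⁻¹ = v
      calc (k : G) * x₀ * z₀ * ((k : G) * x₀)⁻¹ = (k : G) * (x₀ * z₀ * x₀⁻¹) * (k : G)⁻¹ := by
            group
        _ = v := by rw [hv0]; exact cz_fix k.2
    · show conjPair ((k : G) * x₀) _ = _
      rw [← conjPair_conjPair]
      have h2 := congrArg Prod.snd h₀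
      simp only [movePt] at h2
      rw [h2]
      exact conjPair_cz k.2 b
  rw [← Nat.card_prod, Nat.card_eq_fintype_card, ← Finset.card_univ,
    Finset.card_eq_sum_card_fiberwise (f := μ) (t := s) (fun k _ => hμ k)]
  refine Finset.sum_congr rfl fun ⟨x, z⟩ ha => ?_
  rw [hs] at ha
  have hv : x * z * x⁻¹ = v := congrArg Prod.fst ha
  -- one point over `(x, z)`
  obtain ⟨y, hy, hyz⟩ : ∃ y ∈ T, y * z₀ * y⁻¹ = z := by
    have hc : Carries p M P c (x⁻¹ * x₀) (Subgroup.zpowers (z₀ : G)) := by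
      refine ⟨bk p M P c z₀, bk_le hM hPe z₀.2, ?_⟩
      have h2 := congrArg Prod.snd h₀
      have h3 := congrArg Prod.snd ha
      simp only [movePt] at h2 h3
      rw [← conjPair_conjPair, h2, ← h3, conjPair_conjPair, inv_mul_cancel, conjPair_one]
      exact bk_le hM hPe z.2
    obtain ⟨y, hy, hyv⟩ := exists_blockT_agree hM hmax hab hc
    refine ⟨y, hy, ?_⟩
    rw [← hyv _ (Subgroup.mem_zpowers _)]
    calc x⁻¹ * x₀ * z₀ * (x⁻¹ * x₀)⁻¹ = x⁻¹ * (x₀ * z₀ * x₀⁻¹) * x := by group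
      _ = z := by rw [hv0, ← hv]; group
  have hkmem : ∀ t : G, t * z * t⁻¹ = z → x * (t * y) * x₀⁻¹ ∈ cz v := fun t ht => by
    rw [cz_eq, Subgroup.mem_centralizer_singleton_iff]
    calc x * (t * y) * x₀⁻¹ * v = x * (t * (y * z₀ * y⁻¹) * t⁻¹) * x⁻¹ * (x * (t * y) * x₀⁻¹) := by
          rw [← hv0]; group
      _ = v * (x * (t * y) * x₀⁻¹) := by rw [hyz, ht, hv]
  rw [stabCount, ← Fintype.card_subtype, ← Nat.card_eq_fintype_card]
  refine Nat.card_congr (Equiv.ofBijective (fun t => ⟨(⟨x * ((t.1 : G) * y) * x₀⁻¹, hkmem _ t.2⟩,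
    ⟨(t.1 : G) * y, mul_mem t.1.2 hy⟩), ?_⟩) ⟨?_, ?_⟩)
  · refine Prod.ext ?_ (Subtype.ext ?_)
    · show x * ((t.1 : G) * y) * x₀⁻¹ * x₀ * ((t.1 : G) * y)⁻¹ = x
      group
    · show (t.1 : G) * y * z₀ * ((t.1 : G) * y)⁻¹ = z
      calc (t.1 : G) * y * z₀ * ((t.1 : G) * y)⁻¹ = (t.1 : G) * (y * z₀ * y⁻¹) * (t.1 : G)⁻¹ := by
            group
        _ = z := by rw [hyz]; exact t.2
  · intro t t' h
    have h2 := congrArg (fun k => ((k.1.2 : T) : G)) h
    exact Subtype.ext (Subtype.ext (mul_right_cancel h2))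
  · rintro ⟨⟨k, y'⟩, hk⟩
    have hx' : (k : G) * x₀ * (y' : G)⁻¹ = x := congrArg Prod.fst hk
    have hz' : (y' : G) * z₀ * (y' : G)⁻¹ = z :=
      congrArg (fun q : G × ↥P => (q.2 : G)) hk
    refine ⟨⟨⟨(y' : G) * y⁻¹, mul_mem y'.2 (inv_mem hy)⟩, ?_⟩, Subtype.ext (Prod.ext ?_ ?_)⟩
    · show (y' : G) * y⁻¹ * z * ((y' : G) * y⁻¹)⁻¹ = z
      conv_lhs => rw [← hyz]
      conv_rhs => rw [← hz']
      group
    · refine Subtype.ext ?_
      show x * ((y' : G) * y⁻¹ * y) * x₀⁻¹ = k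
      rw [← hx']
      group
    · refine Subtype.ext ?_
      show (y' : G) * y⁻¹ * y = y'
      group

variable (p M P c) in
/-- The weighted sum of the ranks over `P`. -/
noncomputable def rankSum [Fintype ↥P] (f : ↥P → ℂ) : ℂ :=
  ∑ z : ↥P, f z * (stabCount (blockT P c) (z : G) : ℂ) * (blockRank p (bk p M P c (z : G)) : ℂ)

/-- The trace as a sum over `P`. -/
theorem card_mul_trace_eq_rankSum [Fintype ↥P] [DecidablePred (· ∈ B)] (hM : IsPModular p M)
    (hmax : IsMaximalBrauerPair p M B P c) (hab : ∀ x ∈ P, ∀ y ∈ P, x * y = y * x)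
    (hF : IsBlockFusionSystemOn p M B P c F) {lam : ↥P →* ℂˣ}
    (hlam : ∀ n ∈ F.focalSubgroup.subgroupOf P, lam n = 1) :
    (Nat.card (blockT P c) : ℂ) * ∑ χ : IrrCharacter G with χ ∈ B,
        classInner (starChar p M (χ : G → ℂ) (starW p M c lam)) (χ : G → ℂ) =
      rankSum p M P c (fun z => (lam z : ℂ)) := by
  classical
  have hB := hmax.1.2.1
  set w := starW p M c lam
  let S : ∀ v : G, Finset (Set (IrrCharacter (cz v))) := fun v =>
    (subBlocks M (cz v)).filter fun b => IsInducedBlock M (cz v) b B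
  have hS : ∀ v b, b ∈ S v ↔ IsInducedBlock M (cz v) b B := fun v b => by
    simp only [S, Finset.mem_filter, mem_subBlocks]
    exact ⟨fun h => h.2, fun h => ⟨h.1, h⟩⟩
  set Pi := (Finset.univ.filter fun v : G => ∃ k : ℕ, orderOf v = p ^ k).sigma S with hPi
  let g : (Σ v : G, Set (IrrCharacter (cz v))) → G × BrauerPairIdx G :=
    fun a => (a.1, ⟨Subgroup.zpowers a.1, a.2⟩)
  have hg : Function.Injective g := by
    rintro ⟨v, b⟩ ⟨v', b'⟩ h
    simp only [g, Prod.mk.injEq] at h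
    obtain ⟨rfl, h⟩ := h
    simp only [Sigma.mk.inj_iff, heq_eq_eq, true_and] at h
    rw [h]
  have hG : (Nat.card G : ℂ) ≠ 0 := Nat.cast_ne_zero.mpr Nat.card_pos.ne'
  apply mul_left_cancel₀ hG
  rw [mul_left_comm, card_mul_trace hM hB w S hS, Finset.mul_sum]
  trans ∑ a ∈ Pi, (Nat.card (blockT P c) : ℂ) * (w a.1 ⟨Subgroup.zpowers a.1, a.2⟩ *
      ((Nat.card (cz a.1) : ℂ) * (blockRank p a.2 : ℂ)))
  · rw [hPi, Finset.sum_sigma]
    exact Finset.sum_congr rfl fun v _ => Finset.mul_sum _ _ _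
  have hrhs : (Nat.card G : ℂ) * rankSum p M P c (fun z => (lam z : ℂ)) =
      ∑ a : G × ↥P, (lam a.2 : ℂ) * (stabCount (blockT P c) (a.2 : G) : ℂ) *
        (blockRank p (bk p M P c (a.2 : G)) : ℂ) := by
    simp only [Fintype.sum_prod_type, rankSum]
    rw [Finset.sum_comm, Finset.mul_sum]
    refine Finset.sum_congr rfl fun z _ => ?_
    show _ = ∑ _x : G, (lam z : ℂ) * (stabCount (blockT P c) (z : G) : ℂ) *
      (blockRank p (bk p M P c (z : G)) : ℂ)
    refine Eq.symm ((Finset.sum_const (_ : ℂ)).trans ?_)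
    rw [nsmul_eq_mul, Finset.card_univ, Nat.card_eq_fintype_card]
  rw [hrhs]
  have hmaps : ∀ a : G × ↥P, a ∈ Finset.univ → movePt p M P c a ∈ Pi.image g := by
    rintro ⟨x, z⟩ -
    set v := x * (z : G) * x⁻¹ with hv
    refine Finset.mem_image.mpr ⟨⟨v, conjSet x (cz z) (cz v) (bk p M P c z)⟩, ?_, ?_⟩
    · have hvk : ∃ k : ℕ, orderOf v = p ^ k := by
        obtain ⟨k, hk⟩ := exists_pow_orderOf_mem hM hmax.1.1.1 z
        exact ⟨k, hk ▸ orderOf_injective (MulAut.conj x).toMonoidHom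
          (MulAut.conj x).injective _⟩
      refine Finset.mem_sigma.mpr ⟨Finset.mem_filter.mpr ⟨Finset.mem_univ _, hvk⟩, (hS v _).mpr ?_⟩
      have hp' := isBrauerPairOf_conjPair x
        (a := ⟨Subgroup.zpowers (z : G), bk p M P c z⟩) (bk_pairOf hM hmax z.2)
      rw [conjPair_zpowers hv.symm] at hp'
      exact (isBrauerPairOf_iff_induced hM hvk hp'.1.2).mp hp'
    · exact Prod.ext rfl (conjPair_zpowers hv.symm _).symm
  rw [← Finset.sum_fiberwise_of_maps_to hmaps, Finset.sum_image hg.injOn]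
  refine Finset.sum_congr rfl fun a ha => ?_
  obtain ⟨v, b⟩ := a
  obtain ⟨hv, hb⟩ := Finset.mem_sigma.mp ha
  have hv' := (Finset.mem_filter.mp hv).2
  have hpair := (isBrauerPairOf_iff_induced hM hv' ((hS v b).mp hb).1).mpr ((hS v b).mp hb)
  set s := Finset.univ.filter fun q : G × ↥P => movePt p M P c q = g ⟨v, b⟩
  have hs : ∀ q, q ∈ s ↔ movePt p M P c q = (v, ⟨Subgroup.zpowers v, b⟩) := fun q => by
    simp [s, g]
  have hne : s.Nonempty := by
    obtain ⟨h, hh⟩ := exists_conjPair_le_maximal hM hmax hpair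
    rw [conjPair_zpowers (rfl : h * v * h⁻¹ = _)] at hh
    set z := h * v * h⁻¹ with hz
    have hzP : z ∈ P := PairLE.fst_le hh (Subgroup.mem_zpowers _)
    refine ⟨(h⁻¹, ⟨z, hzP⟩), (hs _).mpr (Prod.ext ?_ ?_)⟩
    · show h⁻¹ * z * h⁻¹⁻¹ = v
      rw [hz]; group
    · show conjPair h⁻¹ ⟨Subgroup.zpowers z, bk p M P c z⟩ = _
      rw [← eq_of_le_top hM hmax.1.1 hh (bk_le hM hmax.1.1 hzP), ← conjPair_zpowers hz.symm,
        conjPair_conjPair, inv_mul_cancel, conjPair_one]
  have hconst : ∀ q ∈ s, (lam q.2 : ℂ) = w v ⟨Subgroup.zpowers v, b⟩ ∧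
      blockRank p (bk p M P c (q.2 : G)) = blockRank p b := by
    rintro ⟨x, z⟩ hq
    rw [hs] at hq
    have h2 : conjPair x ⟨Subgroup.zpowers (z : G), bk p M P c z⟩ = ⟨Subgroup.zpowers v, b⟩ :=
      congrArg Prod.snd hq
    have h1 : x * z * x⁻¹ = v := congrArg Prod.fst hq
    refine ⟨?_, ?_⟩
    · have hle : PairLE p M (conjPair x⁻¹ ⟨Subgroup.zpowers v, b⟩) ⟨P, c⟩ := by
        rw [← h2, conjPair_conjPair, inv_mul_cancel, conjPair_one]
        exact bk_le hM hmax.1.1 z.2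
      show _ = starW p M c lam v ⟨Subgroup.zpowers v, b⟩
      rw [starW_of_le hF hlam (Subgroup.mem_zpowers v) hle,
        show x⁻¹ * v * x⁻¹⁻¹ = (z : G) by rw [← h1]; group, lamExt_of_mem lam z.2]
    · have h3 := congrArg (pairRank p) h2
      rw [pairRank_conjPair] at h3
      exact h3
  rw [Finset.sum_congr rfl (g := fun q => w v ⟨Subgroup.zpowers v, b⟩ * (blockRank p b : ℂ) *
    (stabCount (blockT P c) (q.2 : G) : ℂ)) (fun q hq => by
      rw [(hconst q hq).1, (hconst q hq).2]; ring), ← Finset.mul_sum, ← Nat.cast_sum,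
    sum_stabCount_fiber hM hmax hab hs hne, Nat.cast_mul]
  ring

end CfsgLib.Blocks.Watanabe
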