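import Cfsg.Agent.Lib.Blocks.Watanabe.Focal
import Cfsg.Agent.Lib.Blocks.Watanabe.Transport

/-!
# An element of an abelian defect group fixed by the inertial stabilizer

For `u ∈ P` fixed by `T` the block `B` and the block of `C_G(u)` below `(P, c)` have the same
regular rank and the same number of characters.  By induction on the order of `G`: the sums of
`|C_T(z)| l(b_z)` over the cosets `N` and `N u` of the focal subgroup agree, and so do all terms
but the first ones, as `C_G(n)` and `C_G(n u)` are proper for `n ≠ 1`.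
-/

set_option autoImplicit false
set_option linter.unusedSectionVars false
set_option linter.style.haveILetI false

namespace CfsgLib.Blocks.Watanabe

open Cfsg CfsgLib.Blocks.FreeQuot
open scoped ComplexConjugate CfsgLib.Char

universe u

variable {p : ℕ} {M : Ideal AlgInt} [M.IsPrime]

variable (p M) in
/-- The statement for groups of order below `m`. -/
def RankBelow (m : ℕ) : Prop :=
  ∀ (G : Type u) [Group G] [Fintype G] (P : Subgroup G)
    (c : Set (IrrCharacter (Subgroup.centralizer (P : Set G)))) (B : Set (IrrCharacter G)),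
    Nat.card G < m → IsMaximalBrauerPair p M B P c → (∀ x ∈ P, ∀ y ∈ P, x * y = y * x) →
      ¬ p ∣ (Subgroup.centralizer (P : Set G)).relIndex (blockT P c) →
      ∀ w ∈ P, (∀ y ∈ blockT P c, y * w * y⁻¹ = w) →
        blockRank p (bk p M P c (1 : G)) = blockRank p (bk p M P c w)

section

variable {G : Type u} [Group G] [Fintype G] {P : Subgroup G}
  {c : Set (IrrCharacter (Subgroup.centralizer (P : Set G)))} {B : Set (IrrCharacter G)}

/-- The theorem in `C_G(v)`, read in `G`. -/
theorem blockRank_bk_sup (hM : IsPModular p M) (hmax : IsMaximalBrauerPair p M B P c)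
    (hab : ∀ x ∈ P, ∀ y ∈ P, x * y = y * x)
    (hm : ¬ p ∣ (Subgroup.centralizer (P : Set G)).relIndex (blockT P c)) {w : G} (hw : w ∈ P)
    (hfix : ∀ y ∈ blockT P c, y * w * y⁻¹ = w) {m : ℕ} (ih : RankBelow.{u} p M m) {v : G}
    (hv : v ∈ P) (hlt : Nat.card (cz v) < m) {R : Subgroup G}
    (hR : R = Subgroup.zpowers v ⊔ Subgroup.zpowers w)
    {f : Set (IrrCharacter (Subgroup.centralizer (R : Set G)))} (hf : SubpairLE p M R f P c) :
    blockRank p (bk p M P c v) = blockRank p f := by
  classical
  have hQP : Subgroup.zpowers v ≤ P := Subgroup.zpowers_le.mpr hv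
  have hPH : P ≤ cz v := fun a ha b hb => hab b (hQP hb) a ha
  let := Fintype.ofFinite (cz v)
  have hle := bk_subpair hM hmax.1.1 hv
  have hmaxK := below_isMaximal hM hmax hab hle hPH
  set P' := P.subgroupOf (cz v)
  set c' := irrEquiv (centTop hQP hPH).symm '' c
  have habK : ∀ a ∈ P', ∀ b ∈ P', a * b = b * a := fun a ha b hb =>
    Subtype.ext (hab _ ha _ hb)
  let w' : cz v := ⟨w, hPH hw⟩
  have h := ih (cz v) P' c' _ hlt hmaxK habK (not_dvd_relIndex_below hM hQP hPH hm) w' hw
    fun y hy => Subtype.ext (hfix _ ((mem_blockT_below_iff hQP hPH y).mp hy))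
  have h1 := blockRank_bk_below hM hmax hab hQP hPH hle (1 : cz v) (one_mem P)
    (by rw [Subgroup.coe_one, Subgroup.zpowers_one_eq_bot, sup_bot_eq]) hle
  rw [← h1]
  exact h.trans (blockRank_bk_below hM hmax hab hQP hPH hle w' hw hR hf)

theorem natCard_cz_lt {v : G} (h : ∃ y : G, y * v * y⁻¹ ≠ v) : Nat.card (cz v) < Nat.card G := by
  obtain ⟨y, hy⟩ := h
  refine lt_of_le_of_ne (Subgroup.card_le_card_group _) fun he => hy ?_
  have : y ∈ cz v := by rw [Subgroup.eq_top_of_card_eq _ he]; trivial
  exact cz_fix this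

theorem stabCount_mul_fixed {T : Subgroup G} {w z : G} (hw : ∀ y ∈ T, y * w * y⁻¹ = w) :
    stabCount T (z * w) = stabCount T z := by
  refine Nat.card_congr (Equiv.subtypeEquivRight fun t => ?_)
  rw [show (t : G) * (z * w) * (t : G)⁻¹ = ((t : G) * z * (t : G)⁻¹) * ((t : G) * w * (t : G)⁻¹) by
    group, hw _ t.2, mul_left_inj]

theorem stabCount_fixed {T : Subgroup G} {w : G} (hw : ∀ y ∈ T, y * w * y⁻¹ = w) :
    stabCount T w = Nat.card T :=
  Nat.card_congr (Equiv.subtypeUnivEquiv fun t => hw _ t.2)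

end

/-- The induction. -/
theorem rankBelow (hM : IsPModular p M) (m : ℕ) : RankBelow.{u} p M m := by
  induction m with
  | zero => exact fun G _ _ P c B h => absurd h (Nat.not_lt_zero _)
  | succ m ih =>
    intro G _ _ P c B hlt hmax hab hm w hw hfix
    classical
    let := Fintype.ofFinite P
    have hF := isBlockFusionSystemOn_blockFusion hM hmax
    set F := blockFusion hM hmax.1.1
    set N := F.focalSubgroup.subgroupOf P with hN
    have h1 := index_mul_coset_sum hM hmax hab hF N hN.symm 1
    have h2 := index_mul_coset_sum hM hmax hab hF N hN.symm ⟨w, hw⟩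
    have hsum := Nat.eq_of_mul_eq_mul_left
      (Nat.pos_of_ne_zero Subgroup.index_ne_zero_of_finite) (h1.trans h2.symm)
    have hone : (1 : ↥P) ∈ Finset.univ.filter (· ∈ N) :=
      Finset.mem_filter.mpr ⟨Finset.mem_univ _, one_mem N⟩
    rw [← Finset.add_sum_erase _ _ hone, ← Finset.add_sum_erase _ _ hone,
      Finset.sum_congr rfl (g := fun n => term p M P c (n * ⟨w, hw⟩)) fun n hn => ?_] at hsum
    · have h := Nat.add_right_cancel hsum
      simp only [one_mul] at h
      simp only [term, Subgroup.coe_one] at h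
      rw [stabCount_fixed (w := (1 : G)) fun y _ => by group, stabCount_fixed hfix] at h
      exact Nat.eq_of_mul_eq_mul_left Nat.card_pos h
    obtain ⟨hn1, hnN⟩ := Finset.mem_erase.mp hn
    have hnF : (n : G) ∈ F.focalSubgroup := (Finset.mem_filter.mp hnN).2
    have hne : (n : G) ≠ 1 := fun h => hn1 (Subtype.ext h)
    have hnfix : ∃ y ∈ blockT P c, y * (n : G) * y⁻¹ ≠ n := by
      by_contra h
      push Not at h
      exact hne (focal_fixed_eq_one hM hmax hab hF hm hnF h n.2)
    obtain ⟨y, hy, hyn⟩ := hnfix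
    have hnw : y * ((n : G) * w) * y⁻¹ ≠ (n : G) * w := fun h => hyn (by
      rw [show y * ((n : G) * w) * y⁻¹ = (y * n * y⁻¹) * (y * w * y⁻¹) by group, hfix y hy,
        mul_left_inj] at h
      exact h)
    have hsupeq : Subgroup.zpowers (n : G) ⊔ Subgroup.zpowers w =
        Subgroup.zpowers ((n : G) * w) ⊔ Subgroup.zpowers w := by
      refine le_antisymm (sup_le (Subgroup.zpowers_le.mpr ?_) le_sup_right)
        (sup_le (Subgroup.zpowers_le.mpr ?_) le_sup_right)
      · have := mul_mem (Subgroup.mem_sup_left (T := Subgroup.zpowers w)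
          (Subgroup.mem_zpowers ((n : G) * w)))
          (inv_mem (Subgroup.mem_sup_right (S := Subgroup.zpowers ((n : G) * w))
            (Subgroup.mem_zpowers w)))
        rwa [mul_inv_cancel_right] at this
      · exact mul_mem (Subgroup.mem_sup_left (Subgroup.mem_zpowers _))
          (Subgroup.mem_sup_right (Subgroup.mem_zpowers _))
    obtain ⟨f, hf⟩ := exists_le_top hM hmax.1.1 (Q := Subgroup.zpowers (n : G) ⊔ Subgroup.zpowers w)
      (sup_le (Subgroup.zpowers_le.mpr n.2) (Subgroup.zpowers_le.mpr hw))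
    have e1 := blockRank_bk_sup hM hmax hab hm hw hfix ih n.2
      (lt_of_lt_of_le (natCard_cz_lt ⟨y, hyn⟩) (Nat.lt_succ_iff.mp hlt)) rfl hf
    have e2 := blockRank_bk_sup hM hmax hab hm hw hfix ih (mul_mem n.2 hw)
      (lt_of_lt_of_le (natCard_cz_lt ⟨y, hnw⟩) (Nat.lt_succ_iff.mp hlt)) hsupeq hf
    simp only [mul_one]
    simp only [term, Subgroup.coe_mul]
    rw [stabCount_mul_fixed hfix, e1, e2]

section

variable {G : Type u} [Group G] [Fintype G] {P : Subgroup G}
  {c : Set (IrrCharacter (Subgroup.centralizer (P : Set G)))} {B : Set (IrrCharacter G)}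

/-- The block below `(P, c)` at `w` has the rank and the number of characters of `B`. -/
theorem counts_eq (hM : IsPModular p M) (hmax : IsMaximalBrauerPair p M B P c)
    (hab : ∀ x ∈ P, ∀ y ∈ P, x * y = y * x)
    (hm : ¬ p ∣ (Subgroup.centralizer (P : Set G)).relIndex (blockT P c)) {w : G} (hw : w ∈ P)
    (hfix : ∀ y ∈ blockT P c, y * w * y⁻¹ = w) :
    blockRank p B = blockRank p (bk p M P c w) ∧ Nat.card B = Nat.card (bk p M P c w) := by
  classical
  have hlw := rankBelow hM (Nat.card G + 1) G P c B (Nat.lt_succ_self _) hmax hab hm w hw hfix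
  refine ⟨(blockRank_bk_one hM hmax).symm.trans hlw, ?_⟩
  let := Fintype.ofFinite P
  have hQP : Subgroup.zpowers w ≤ P := Subgroup.zpowers_le.mpr hw
  have hPH : P ≤ cz w := fun a ha b hb => hab b (hQP hb) a ha
  let := Fintype.ofFinite (cz w)
  have hle := bk_subpair hM hmax.1.1 hw
  have hmaxK := below_isMaximal hM hmax hab hle hPH
  set P' := P.subgroupOf (cz w)
  set c' := irrEquiv (centTop hQP hPH).symm '' c
  let := Fintype.ofFinite P'
  have habK : ∀ a ∈ P', ∀ b ∈ P', a * b = b * a := fun a ha b hb =>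
    Subtype.ext (hab _ ha _ hb)
  have hTw : blockT P c ≤ cz w := fun y hy => by
    rw [cz_eq, Subgroup.mem_centralizer_singleton_iff]
    exact mul_inv_eq_iff_eq_mul.mp (hfix y hy)
  let eT : blockT P' c' ≃ blockT P c :=
    { toFun := fun y => ⟨((y : cz w) : G), (mem_blockT_below_iff hQP hPH _).mp y.2⟩
      invFun := fun y => ⟨⟨(y : G), hTw y.2⟩, (mem_blockT_below_iff hQP hPH _).mpr y.2⟩
      left_inv := fun _ => rfl
      right_inv := fun _ => rfl }
  have hB := sum_term hM hmax hab
  have hK := sum_term hM hmaxK habK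
  rw [Nat.card_congr eT] at hK
  refine Nat.eq_of_mul_eq_mul_left (Nat.card_pos (α := blockT P c)) ?_
  rw [← hB, ← hK]
  refine Fintype.sum_equiv (Subgroup.subgroupOfEquivOfLe hPH).symm.toEquiv _ _ fun z => ?_
  show stabCount (blockT P c) (z : G) * blockRank p (bk p M P c (z : G)) = _
  have hzK : (z : G) ∈ cz w := hPH z.2
  have hstab : stabCount (blockT P' c') (⟨z, hzK⟩ : cz w) = stabCount (blockT P c) (z : G) := by
    refine Nat.card_congr (Equiv.subtypeEquiv eT fun y => ?_)
    rw [Subtype.ext_iff, Subgroup.coe_mul, Subgroup.coe_mul, Subgroup.coe_inv]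
    rfl
  obtain ⟨f, hf⟩ := exists_le_top hM hmax.1.1 (Q := Subgroup.zpowers w ⊔ Subgroup.zpowers (z : G))
    (sup_le hQP (Subgroup.zpowers_le.mpr z.2))
  have e1 := blockRank_bk_below hM hmax hab hQP hPH hle (⟨z, hzK⟩ : cz w) z.2 rfl hf
  have e2 := blockRank_bk_sup hM hmax hab hm hw hfix (rankBelow hM (Nat.card G + 1)) z.2
    (Nat.lt_succ_of_le (Subgroup.card_le_card_group _)) (sup_comm _ _) hf
  rw [e2, ← e1, ← hstab]
  rfl

end

end CfsgLib.Blocks.Watanabe
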